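import Mathlib.RingTheory.Finiteness.Projective
import Mathlib.RingTheory.TensorProduct.Quotient
import Mathlib.RingTheory.Smooth.Basic
import Mathlib.RingTheory.Smooth.Locus
import Mathlib.RingTheory.FinitePresentation
import Mathlib.RingTheory.Adjoin.FG
import Mathlib.RingTheory.Polynomial.Basic

/-!
The algebra representing the Weil restriction of an affine scheme along a finite projective algebra.
-/

universe u

open TensorProduct

namespace Groth.L13.WeilRes

variable (B B' : Type u) [CommRing B] [CommRing B'] [Algebra B B'] [Module.Finite B B']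
  [Module.Projective B B'] (A : Type u) [CommRing A] [Algebra B' A]

/-- The number of elements of a chosen dual basis. -/
noncomputable def rk : ℕ := (Module.Finite.exists_comp_eq_id_of_projective B B').choose

/-- The spanning elements of a chosen dual basis. -/
noncomputable def bas : Fin (rk B B') → B' := fun i =>
  (Module.Finite.exists_comp_eq_id_of_projective B B').choose_spec.choose (Pi.single i 1)

/-- The forms of a chosen dual basis. -/
noncomputable def dualBas (i : Fin (rk B B')) : B' →ₗ[B] B :=
  LinearMap.proj i ∘ₗ (Module.Finite.exists_comp_eq_id_of_projective B B').choose_spec.choose_spec.choose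

theorem sum_dualBas_smul_bas (x : B') : ∑ i, dualBas B B' i x • bas B B' i = x := by
  obtain ⟨-, -, h⟩ :=
    (Module.Finite.exists_comp_eq_id_of_projective B B').choose_spec.choose_spec.choose_spec
  refine Eq.trans ?_ (LinearMap.congr_fun h x)
  rw [LinearMap.comp_apply]
  simp only [bas, dualBas, LinearMap.comp_apply, LinearMap.proj_apply]
  set g := (Module.Finite.exists_comp_eq_id_of_projective B B').choose_spec.choose_spec.choose x
  set f := (Module.Finite.exists_comp_eq_id_of_projective B B').choose_spec.choose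
  conv_rhs => rw [pi_eq_sum_univ' g, map_sum]
  exact Finset.sum_congr rfl fun i _ => by rw [map_smul]; rfl

variable {B B'}

/-- The coordinates of an element of a base change. -/
noncomputable def coord (C : Type u) [CommRing C] [Algebra B C] (i : Fin (rk B B')) :
    B' ⊗[B] C →ₗ[B] C :=
  (TensorProduct.lid B C).toLinearMap ∘ₗ LinearMap.rTensor C (dualBas B B' i)

theorem coord_tmul {C : Type u} [CommRing C] [Algebra B C] (i : Fin (rk B B')) (x : B') (c : C) :
    coord C i (x ⊗ₜ c) = dualBas B B' i x • c := by
  simp [coord]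

theorem sum_bas_coord {C : Type u} [CommRing C] [Algebra B C] (z : B' ⊗[B] C) :
    ∑ i, bas B B' i ⊗ₜ coord C i z = z := by
  induction z using TensorProduct.induction_on with
  | zero => simp
  | tmul x c =>
    conv_rhs => rw [← sum_dualBas_smul_bas B B' x, TensorProduct.sum_tmul]
    refine Finset.sum_congr rfl fun i _ => ?_
    rw [coord_tmul, TensorProduct.tmul_smul, TensorProduct.smul_tmul']
  | add z w hz hw => simp only [map_add, TensorProduct.tmul_add, Finset.sum_add_distrib, hz, hw]

theorem coord_map {C D : Type u} [CommRing C] [Algebra B C] [CommRing D] [Algebra B D]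
    (f : C →ₐ[B] D) (i : Fin (rk B B')) (z : B' ⊗[B] C) :
    coord D i (Algebra.TensorProduct.map (AlgHom.id B' B') f z) = f (coord C i z) := by
  induction z using TensorProduct.induction_on with
  | zero => simp
  | tmul x c => rw [Algebra.TensorProduct.map_tmul, coord_tmul, coord_tmul, map_smul]; rfl
  | add z w hz hw => simp only [map_add, hz, hw]

theorem ext_coord {C : Type u} [CommRing C] [Algebra B C] {z w : B' ⊗[B] C}
    (h : ∀ i, coord C i z = coord C i w) : z = w := by
  rw [← sum_bas_coord z, ← sum_bas_coord w]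
  exact Finset.sum_congr rfl fun i _ => by rw [h i]

variable (B B')

/-- The generic element attached to an element of `A`. -/
noncomputable def gen (a : A) : B' ⊗[B] MvPolynomial (A × Fin (rk B B')) B :=
  ∑ i, bas B B' i ⊗ₜ MvPolynomial.X (a, i)

/-- The relations of the Weil restriction. -/
noncomputable def rels : Set (MvPolynomial (A × Fin (rk B B')) B) :=
  Set.range (fun x : (A × A) × Fin (rk B B') =>
      coord _ x.2 (gen B B' A (x.1.1 + x.1.2) - gen B B' A x.1.1 - gen B B' A x.1.2)) ∪
    Set.range (fun x : (A × A) × Fin (rk B B') =>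
      coord _ x.2 (gen B B' A (x.1.1 * x.1.2) - gen B B' A x.1.1 * gen B B' A x.1.2)) ∪
    Set.range (fun x : B' × Fin (rk B B') =>
      coord _ x.2 (gen B B' A (algebraMap B' A x.1) - x.1 ⊗ₜ 1)) ∪
    Set.range (fun x : A × Fin (rk B B') => MvPolynomial.X x - coord _ x.2 (gen B B' A x.1))

/-- The algebra representing the Weil restriction. -/
def W : Type u := MvPolynomial (A × Fin (rk B B')) B ⧸ Ideal.span (rels B B' A)

noncomputable instance : CommRing (W B B' A) :=
  inferInstanceAs (CommRing (MvPolynomial (A × Fin (rk B B')) B ⧸ Ideal.span (rels B B' A)))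

noncomputable instance : Algebra B (W B B' A) :=
  inferInstanceAs (Algebra B (MvPolynomial (A × Fin (rk B B')) B ⧸ Ideal.span (rels B B' A)))

/-- The quotient map. -/
noncomputable def proj : MvPolynomial (A × Fin (rk B B')) B →ₐ[B] W B B' A :=
  Ideal.Quotient.mkₐ B _

theorem proj_eq_zero {x} (hx : x ∈ rels B B' A) : proj B B' A x = 0 :=
  Ideal.Quotient.eq_zero_iff_mem.2 (Ideal.subset_span hx)

/-- The map sending an element to its generic image. -/
noncomputable def univFun (a : A) : B' ⊗[B] W B B' A :=
  Algebra.TensorProduct.map (AlgHom.id B' B') (proj B B' A) (gen B B' A a)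

theorem univFun_eq {a : A} (z : B' ⊗[B] MvPolynomial (A × Fin (rk B B')) B)
    (h : ∀ i, proj B B' A (coord _ i (gen B B' A a - z)) = 0) :
    univFun B B' A a = Algebra.TensorProduct.map (AlgHom.id B' B') (proj B B' A) z := by
  refine sub_eq_zero.1 (ext_coord fun i => ?_)
  rw [univFun, ← map_sub, coord_map, h, map_zero]

theorem univFun_add (a b : A) : univFun B B' A (a + b) = univFun B B' A a + univFun B B' A b := by
  refine (univFun_eq B B' A (gen B B' A a + gen B B' A b) fun i => ?_).trans (map_add _ _ _)
  exact proj_eq_zero B B' A (Or.inl (Or.inl (Or.inl ⟨((a, b), i), congrArg _ (sub_sub _ _ _)⟩)))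

theorem univFun_mul (a b : A) : univFun B B' A (a * b) = univFun B B' A a * univFun B B' A b := by
  refine (univFun_eq B B' A (gen B B' A a * gen B B' A b) fun i => ?_).trans (map_mul _ _ _)
  exact proj_eq_zero B B' A (Or.inl (Or.inl (Or.inr ⟨((a, b), i), rfl⟩)))

theorem univFun_algebraMap (b : B') : univFun B B' A (algebraMap B' A b) = b ⊗ₜ 1 := by
  refine (univFun_eq B B' A (b ⊗ₜ 1) fun i => ?_).trans ?_
  · exact proj_eq_zero B B' A (Or.inl (Or.inr ⟨(b, i), rfl⟩))
  · rw [Algebra.TensorProduct.map_tmul, map_one]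
    rfl

/-- The universal map. -/
noncomputable def univ : A →ₐ[B'] B' ⊗[B] W B B' A :=
  AlgHom.ofLinearMap
    { toFun := univFun B B' A
      map_add' := univFun_add B B' A
      map_smul' := fun b a => by
        rw [Algebra.smul_def, univFun_mul, univFun_algebraMap, RingHom.id_apply, Algebra.smul_def]
        rfl }
    (by
      show univFun B B' A 1 = 1
      rw [← map_one (algebraMap B' A), univFun_algebraMap]
      rfl)
    (univFun_mul B B' A)

theorem coord_univ (a : A) (i : Fin (rk B B')) :
    coord _ i (univ B B' A a) = proj B B' A (MvPolynomial.X (a, i)) := by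
  show coord _ i (univFun B B' A a) = _
  rw [univFun, coord_map, eq_comm, ← sub_eq_zero, ← map_sub]
  exact proj_eq_zero B B' A (Or.inr ⟨(a, i), rfl⟩)

variable {B B' A} {C : Type u} [CommRing C] [Algebra B C]

theorem map_eval_gen (f : A →ₐ[B'] B' ⊗[B] C) (a : A) :
    Algebra.TensorProduct.map (AlgHom.id B' B')
      (MvPolynomial.aeval fun x : A × Fin (rk B B') => coord C x.2 (f x.1)) (gen B B' A a) = f a := by
  rw [gen, map_sum]
  simp only [Algebra.TensorProduct.map_tmul, MvPolynomial.aeval_X, AlgHom.coe_id, id_eq]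
  exact sum_bas_coord (f a)

/-- The map corresponding to a point of the base change. -/
noncomputable def toHom (f : A →ₐ[B'] B' ⊗[B] C) : W B B' A →ₐ[B] C :=
  Ideal.Quotient.liftₐ (Ideal.span (rels B B' A))
    (MvPolynomial.aeval fun x : A × Fin (rk B B') => coord C x.2 (f x.1)) fun x hx => by
    refine RingHom.mem_ker.1 ((Ideal.span_le.2 ?_) hx : x ∈ RingHom.ker (MvPolynomial.aeval
      fun x : A × Fin (rk B B') => coord C x.2 (f x.1)))
    rintro _ (((⟨⟨⟨a, b⟩, i⟩, rfl⟩ | ⟨⟨⟨a, b⟩, i⟩, rfl⟩) | ⟨⟨b, i⟩, rfl⟩) | ⟨⟨a, i⟩, rfl⟩) <;>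
      rw [SetLike.mem_coe, RingHom.mem_ker]
    · rw [← coord_map]
      simp only [map_sub, map_eval_gen, map_add, add_sub_cancel_left, sub_self, map_zero]
    · rw [← coord_map]
      simp only [map_sub, map_mul, map_eval_gen, sub_self, map_zero]
    · rw [← coord_map, map_sub, map_eval_gen, Algebra.TensorProduct.map_tmul, map_one, AlgHom.commutes]
      exact (congrArg _ (sub_self _)).trans (map_zero _)
    · rw [map_sub, MvPolynomial.aeval_X, ← coord_map, map_eval_gen, sub_self]

theorem map_toHom_univ (f : A →ₐ[B'] B' ⊗[B] C) :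
    (Algebra.TensorProduct.map (AlgHom.id B' B') (toHom f)).comp (univ B B' A) = f := by
  refine AlgHom.ext fun a => ?_
  rw [AlgHom.comp_apply]
  refine ext_coord fun i => ?_
  rw [coord_map, coord_univ]
  show MvPolynomial.aeval (fun x : A × Fin (rk B B') => coord C x.2 (f x.1)) (MvPolynomial.X (a, i)) = _
  rw [MvPolynomial.aeval_X]

/-- Maps out of the Weil restriction algebra are determined by their points. -/
theorem hom_ext {g g' : W B B' A →ₐ[B] C}
    (h : (Algebra.TensorProduct.map (AlgHom.id B' B') g).comp (univ B B' A) =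
      (Algebra.TensorProduct.map (AlgHom.id B' B') g').comp (univ B B' A)) : g = g' := by
  refine Ideal.Quotient.algHom_ext B (MvPolynomial.algHom_ext fun x => ?_)
  show g (proj B B' A (MvPolynomial.X (x.1, x.2))) = g' (proj B B' A (MvPolynomial.X (x.1, x.2)))
  rw [← coord_univ, ← coord_map, ← coord_map]
  exact congrArg (coord C x.2) (AlgHom.congr_fun h x.1)

theorem toHom_univ (g : W B B' A →ₐ[B] C) :
    toHom ((Algebra.TensorProduct.map (AlgHom.id B' B') g).comp (univ B B' A)) = g :=
  hom_ext (map_toHom_univ _)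

variable (B B' A)

/-- The universal property as a bijection. -/
noncomputable def homEquiv (C : Type u) [CommRing C] [Algebra B C] :
    (W B B' A →ₐ[B] C) ≃ (A →ₐ[B'] B' ⊗[B] C) where
  toFun g := (Algebra.TensorProduct.map (AlgHom.id B' B') g).comp (univ B B' A)
  invFun := toHom
  left_inv := toHom_univ
  right_inv := map_toHom_univ

theorem finiteType [Algebra.FiniteType B' A] : Algebra.FiniteType B (W B B' A) := by
  classical
  obtain ⟨s, hs⟩ := Algebra.FiniteType.out (R := B') (A := A)
  let t : Finset (W B B' A) :=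
    (s ×ˢ (Finset.univ : Finset (Fin (rk B B')))).image fun x => proj B B' A (MvPolynomial.X x)
  refine ⟨⟨t, ?_⟩⟩
  let S := Algebra.adjoin B (t : Set (W B B' A))
  let ι : B' ⊗[B] S →ₐ[B'] B' ⊗[B] W B B' A := Algebra.TensorProduct.map (AlgHom.id B' B') S.val
  have hT : ∀ a, univ B B' A a ∈ ι.range := by
    intro a
    have ha : a ∈ Algebra.adjoin B' (s : Set A) := hs ▸ Algebra.mem_top
    refine (Algebra.adjoin_le (S := ι.range.comap (univ B B' A)) fun b hb => ?_) ha
    refine ⟨∑ i, bas B B' i ⊗ₜ ⟨coord _ i (univ B B' A b), ?_⟩, ?_⟩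
    · rw [coord_univ]
      exact Algebra.subset_adjoin (Finset.mem_coe.2 (Finset.mem_image.2
        ⟨(b, i), Finset.mem_product.2 ⟨hb, Finset.mem_univ _⟩, rfl⟩))
    · refine (map_sum ι _ _).trans ?_
      simp only [ι, Algebra.TensorProduct.map_tmul, AlgHom.coe_id, id_eq, Subalgebra.coe_val]
      exact sum_bas_coord _
  refine eq_top_iff.2 fun w _ => ?_
  obtain ⟨P, rfl⟩ := Ideal.Quotient.mkₐ_surjective B (Ideal.span (rels B B' A)) w
  show proj B B' A P ∈ S
  clear * - hT
  induction P using MvPolynomial.induction_on with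
  | C c => rw [← MvPolynomial.algebraMap_eq, AlgHom.commutes]; exact S.algebraMap_mem c
  | add p q hp hq => rw [map_add]; exact add_mem hp hq
  | mul_X p x hp =>
    rw [map_mul]
    refine mul_mem hp ?_
    obtain ⟨z, hz⟩ := hT x.1
    show proj B B' A (MvPolynomial.X (x.1, x.2)) ∈ S
    rw [← coord_univ, ← hz]
    show coord _ x.2 (Algebra.TensorProduct.map (AlgHom.id B' B') S.val z) ∈ S
    rw [coord_map]
    exact (coord _ x.2 z).2

theorem finitePresentation [IsNoetherianRing B] [Algebra.FiniteType B' A] :
    Algebra.FinitePresentation B (W B B' A) := by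
  haveI := finiteType B B' A
  exact Algebra.FinitePresentation.of_finiteType.1 inferInstance

omit [Module.Finite B B'] [Module.Projective B B'] in
/-- Base change of a nilpotent surjection. -/
theorem exists_baseChange_quotient {C : Type u} [CommRing C] [Algebra B C] (I : Ideal C)
    (hI : IsNilpotent I) :
    Function.Surjective (Algebra.TensorProduct.map (AlgHom.id B' B') (Ideal.Quotient.mkₐ B I)) ∧
      IsNilpotent (RingHom.ker
        (Algebra.TensorProduct.map (AlgHom.id B' B') (Ideal.Quotient.mkₐ B I) :
          B' ⊗[B] C →+* B' ⊗[B] (C ⧸ I))) := by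
  refine ⟨Algebra.TensorProduct.map_surjective _ _ Function.surjective_id
    (Ideal.Quotient.mkₐ_surjective B I), ?_⟩
  obtain ⟨m, hm⟩ := hI
  refine ⟨m, ?_⟩
  have h : RingHom.ker (Algebra.TensorProduct.map (AlgHom.id B B') (Ideal.Quotient.mkₐ B I)) =
      (RingHom.ker (Ideal.Quotient.mkₐ B I)).map (Algebra.TensorProduct.includeRight : C →ₐ[B] B' ⊗[B] C) :=
    Algebra.TensorProduct.lTensor_ker _ (Ideal.Quotient.mkₐ_surjective B I)
  have hk : RingHom.ker (Ideal.Quotient.mkₐ B I) = I := Ideal.Quotient.mkₐ_ker B I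
  rw [hk] at h
  change RingHom.ker (Algebra.TensorProduct.map (AlgHom.id B B') (Ideal.Quotient.mkₐ B I)) ^ m = ⊥
  rw [h, ← Ideal.map_pow, hm, Ideal.zero_eq_bot, Ideal.map_bot]

theorem formallySmooth [Algebra.FormallySmooth B' A] : Algebra.FormallySmooth B (W B B' A) := by
  refine .of_comp_surjective fun C _ _ I hI f => ?_
  obtain ⟨hs, hn⟩ := exists_baseChange_quotient B B' I ⟨2, hI⟩
  let F := (Algebra.TensorProduct.map (AlgHom.id B' B') f).comp (univ B B' A)
  refine ⟨toHom (Algebra.FormallySmooth.liftOfSurjective F _ hs hn), hom_ext ?_⟩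
  show (Algebra.TensorProduct.map (AlgHom.id B' B') ((Ideal.Quotient.mkₐ B I).comp _)).comp _ = F
  rw [Algebra.TensorProduct.map_id_comp, AlgHom.comp_assoc, map_toHom_univ,
    Algebra.FormallySmooth.comp_liftOfSurjective]

theorem smooth [IsNoetherianRing B] [Algebra.Smooth B' A] : Algebra.Smooth B (W B B' A) :=
  ⟨formallySmooth B B' A, finitePresentation B B' A⟩

end Groth.L13.WeilRes
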