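import Groth.Agent.L13.WeilRes.Counit
import Mathlib.FieldTheory.PurelyInseparable.Basic
import Mathlib.RingTheory.Etale.Basic
import Mathlib.RingTheory.Unramified.Basic
import Mathlib.RingTheory.Noetherian.Nilpotent

/-!
Weil restriction along finite purely inseparable field extensions; the unit for faithfully flat
algebras.
-/

universe u

open TensorProduct

namespace Groth.L13.WeilRes

section General

variable (B B' : Type u) [CommRing B] [CommRing B'] [Algebra B B']

/-- The difference of the two images of an element of the extension. -/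
noncomputable def delta (C : Type u) [CommRing C] [Algebra B C] [Algebra B' C] [IsScalarTower B B' C] :
    B' →ₗ[B] B' ⊗[B] C :=
  (Algebra.TensorProduct.includeLeft : B' →ₐ[B] B' ⊗[B] C).toLinearMap -
    ((Algebra.TensorProduct.includeRight : C →ₐ[B] B' ⊗[B] C).comp (IsScalarTower.toAlgHom B B' C)).toLinearMap

theorem delta_apply {C : Type u} [CommRing C] [Algebra B C] [Algebra B' C] [IsScalarTower B B' C]
    (b : B') : delta B B' C b = b ⊗ₜ 1 - 1 ⊗ₜ algebraMap B' C b :=
  rfl

theorem sub_mulMap_mem {C : Type u} [CommRing C] [Algebra B C] [Algebra B' C] [IsScalarTower B B' C]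
    (J : Ideal (B' ⊗[B] C)) (hJ : ∀ b, delta B B' C b ∈ J) (z : B' ⊗[B] C) :
    z - 1 ⊗ₜ mulMap B B' C z ∈ J := by
  induction z using TensorProduct.induction_on with
  | zero => simp
  | tmul b c =>
    have : b ⊗ₜ c - 1 ⊗ₜ mulMap B B' C (b ⊗ₜ c) = delta B B' C b * (1 ⊗ₜ c) := by
      rw [mulMap_tmul, delta_apply, sub_mul, Algebra.TensorProduct.tmul_mul_tmul,
        Algebra.TensorProduct.tmul_mul_tmul, mul_one, one_mul, one_mul]
    rw [this]
    exact J.mul_mem_right _ (hJ b)
  | add z w hz hw =>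
    rw [map_add, TensorProduct.tmul_add, add_sub_add_comm]
    exact J.add_mem hz hw

variable [Module.Finite B B'] [Module.Projective B B'] (A : Type u) [CommRing A] [Algebra B A]

/-- The map classifying the identity of a base change. -/
noncomputable def unitMap : W B B' (B' ⊗[B] A) →ₐ[B] A := toHom (AlgHom.id B' (B' ⊗[B] A))

theorem unitMap_surjective (h : Function.Surjective (PrimeSpectrum.comap (algebraMap B B'))) :
    Function.Surjective (unitMap B B' A) := by
  have htop : Ideal.span (Set.range fun i => dualBas B B' i 1) = ⊤ := by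
    by_contra hne
    obtain ⟨m, hm, hle⟩ := Ideal.exists_le_maximal _ hne
    obtain ⟨q, hq⟩ := h ⟨m, hm.isPrime⟩
    refine q.2.ne_top ((Ideal.eq_top_iff_one _).2 ?_)
    rw [← sum_dualBas_smul_bas B B' 1]
    refine sum_mem fun i _ => ?_
    rw [Algebra.smul_def]
    refine Ideal.mul_mem_right _ _ ?_
    have : dualBas B B' i 1 ∈ (PrimeSpectrum.comap (algebraMap B B') q).asIdeal :=
      hq ▸ hle (Ideal.subset_span ⟨i, rfl⟩)
    exact this
  obtain ⟨c, hc⟩ := Ideal.mem_span_range_iff_exists_fun.1 (htop ▸ Submodule.mem_top (x := (1 : B)))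
  intro a
  refine ⟨∑ i, c i • proj B B' (B' ⊗[B] A) (MvPolynomial.X (1 ⊗ₜ a, i)), ?_⟩
  rw [map_sum]
  have hX : ∀ i, unitMap B B' A (proj B B' (B' ⊗[B] A) (MvPolynomial.X (1 ⊗ₜ a, i))) = dualBas B B' i 1 • a := by
    intro i
    rw [← coord_univ, ← coord_map, ← coord_tmul (C := A)]
    exact congrArg (coord A i) (AlgHom.congr_fun (map_toHom_univ (AlgHom.id B' (B' ⊗[B] A))) (1 ⊗ₜ a))
  simp only [map_smul, hX, smul_smul, ← Finset.sum_smul, hc, one_smul]

end General

section Field

variable (k k' : Type u) [Field k] [Field k'] [Algebra k k'] [Module.Finite k k'] [IsPurelyInseparable k k']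

theorem isNilpotent_delta (C : Type u) [CommRing C] [Algebra k C] [Algebra k' C] [IsScalarTower k k' C]
    (b : k') : IsNilpotent (delta k k' C b) := by
  obtain ⟨n, y, hy⟩ := IsPurelyInseparable.pow_mem k (ringExpChar k) b
  by_cases hC : Nontrivial (k' ⊗[k] C)
  · haveI : ExpChar (k' ⊗[k] C) (ringExpChar k) :=
      expChar_of_injective_ringHom (algebraMap k (k' ⊗[k] C)).injective (ringExpChar k)
    refine ⟨ringExpChar k ^ n, ?_⟩
    rw [delta_apply, sub_pow_expChar_pow, Algebra.TensorProduct.tmul_pow, Algebra.TensorProduct.tmul_pow,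
      one_pow, one_pow, ← map_pow, ← hy, ← IsScalarTower.algebraMap_apply,
      Algebra.TensorProduct.tmul_one_eq_one_tmul, sub_self]
  · rw [not_nontrivial_iff_subsingleton] at hC
    exact ⟨1, Subsingleton.elim _ _⟩

theorem isNilpotent_ker_mulMap (C : Type u) [CommRing C] [Algebra k C] [Algebra k' C]
    [IsScalarTower k k' C] : IsNilpotent (RingHom.ker (mulMap k k' C : k' ⊗[k] C →+* C)) := by
  obtain ⟨s, hs⟩ := Module.Finite.fg_top (R := k) (M := k')
  let J : Ideal (k' ⊗[k] C) := Ideal.span (delta k k' C '' (s : Set k'))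
  have hJ : ∀ b, delta k k' C b ∈ J := fun b => by
    have hb : b ∈ Submodule.span k (s : Set k') := hs ▸ Submodule.mem_top
    induction hb using Submodule.span_induction with
    | mem x hx => exact Ideal.subset_span ⟨x, hx, rfl⟩
    | zero => rw [map_zero]; exact J.zero_mem
    | add x y _ _ hx hy => rw [map_add]; exact J.add_mem hx hy
    | smul r x _ hx => rw [map_smul]; exact Submodule.smul_of_tower_mem J r hx
  have hle : RingHom.ker (mulMap k k' C : k' ⊗[k] C →+* C) ≤ J := fun z hz => by
    have := sub_mulMap_mem k k' J hJ z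
    rwa [show mulMap k k' C z = 0 from hz, TensorProduct.tmul_zero, sub_zero] at this
  have hJn : IsNilpotent J := by
    refine (Ideal.FG.isNilpotent_iff_le_nilradical ⟨(s.finite_toSet.image (delta k k' C)).toFinset, by rw [Set.Finite.coe_toFinset]⟩).2
      (Ideal.span_le.2 ?_)
    rintro _ ⟨b, -, rfl⟩
    exact mem_nilradical.2 (isNilpotent_delta k k' C b)
  obtain ⟨m, hm⟩ := hJn
  exact ⟨m, le_bot_iff.1 ((Ideal.pow_right_mono hle m).trans hm.le)⟩

theorem mulMap_surjective (C : Type u) [CommRing C] [Algebra k C] [Algebra k' C] [IsScalarTower k k' C] :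
    Function.Surjective (mulMap k k' C) :=
  fun c => ⟨1 ⊗ₜ c, by rw [mulMap_tmul, map_one, one_mul]⟩

/-- The counit is surjective on points. -/
theorem exists_hom_of_point (A : Type u) [CommRing A] [Algebra k' A] [Algebra.FormallySmooth k' A]
    (T : Type u) [CommRing T] [Algebra k T] [Algebra k' T] [IsScalarTower k k' T] (a : A →ₐ[k'] T) :
    ∃ g : W k k' A →ₐ[k] T,
      (mulMap k k' T).comp ((Algebra.TensorProduct.map (AlgHom.id k' k') g).comp (univ k k' A)) = a := by
  refine ⟨toHom (Algebra.FormallySmooth.liftOfSurjective a (mulMap k k' T) (mulMap_surjective k k' T)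
    (isNilpotent_ker_mulMap k k' T)), ?_⟩
  rw [map_toHom_univ, Algebra.FormallySmooth.comp_liftOfSurjective]

theorem eq_of_mulMap_eq {R : Type u} [CommRing R] [Algebra k R] [Algebra.FormallyUnramified k R]
    (T : Type u) [CommRing T] [Algebra k T] [Algebra k' T] [IsScalarTower k k' T]
    (f g : R →ₐ[k] k' ⊗[k] T) (h : ∀ r, mulMap k k' T (f r) = mulMap k k' T (g r)) : f = g := by
  refine Algebra.FormallyUnramified.ext _ (isNilpotent_ker_mulMap k k' T) fun r => ?_
  rw [Ideal.Quotient.eq, RingHom.mem_ker, map_sub, sub_eq_zero]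
  exact h r

/-- The counit of an étale algebra is an isomorphism. -/
theorem univ_bijective (A : Type u) [CommRing A] [Algebra k' A] [Algebra.FormallyEtale k' A] :
    Function.Bijective (univ k k' A) := by
  letI : Algebra k A := ((algebraMap k' A).comp (algebraMap k k')).toAlgebra
  haveI : IsScalarTower k k' A := IsScalarTower.of_algebraMap_eq fun _ => rfl
  obtain ⟨η, hη⟩ := exists_hom_of_point k k' A A (AlgHom.id k' A)
  let ψ : k' ⊗[k] W k k' A →ₐ[k'] A := (mulMap k k' A).comp (Algebra.TensorProduct.map (AlgHom.id k' k') η)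
  have h1 : ∀ a, ψ (univ k k' A a) = a := fun a => AlgHom.congr_fun hη a
  let T := k' ⊗[k] W k k' A
  let g₁ : W k k' A →ₐ[k] T := ((univ k k' A).restrictScalars k).comp η
  let g₂ : W k k' A →ₐ[k] T := Algebra.TensorProduct.includeRight
  have h2 : g₁ = g₂ := by
    refine hom_ext ?_
    refine Algebra.FormallyUnramified.ext _ (isNilpotent_ker_mulMap k k' T) fun a => ?_
    rw [Ideal.Quotient.eq, RingHom.mem_ker, map_sub, sub_eq_zero]
    show mulMap k k' T (Algebra.TensorProduct.map (AlgHom.id k' k') g₁ (univ k k' A a)) =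
      mulMap k k' T (Algebra.TensorProduct.map (AlgHom.id k' k') g₂ (univ k k' A a))
    have e1 : ∀ z, mulMap k k' T (Algebra.TensorProduct.map (AlgHom.id k' k') g₂ z) = z := fun z => by
      induction z using TensorProduct.induction_on with
      | zero => simp
      | tmul b w =>
        rw [Algebra.TensorProduct.map_tmul, mulMap_tmul]
        show (b ⊗ₜ[k] (1 : W k k' A)) * (1 ⊗ₜ w) = b ⊗ₜ w
        rw [Algebra.TensorProduct.tmul_mul_tmul, mul_one, one_mul]
      | add z w hz hw => simp only [map_add, hz, hw]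
    rw [e1, show g₁ = ((univ k k' A).restrictScalars k).comp η from rfl, Algebra.TensorProduct.map_id_comp,
      AlgHom.comp_apply, ← mulMap_map]
    exact congrArg (univ k k' A) (h1 a)
  refine ⟨Function.LeftInverse.injective h1, fun z => ⟨ψ z, ?_⟩⟩
  induction z using TensorProduct.induction_on with
  | zero => simp
  | tmul b w =>
    have hb : univ k k' A (η w) = 1 ⊗ₜ w := AlgHom.congr_fun h2 w
    show univ k k' A (mulMap k k' A (Algebra.TensorProduct.map (AlgHom.id k' k') η (b ⊗ₜ w))) = _
    rw [Algebra.TensorProduct.map_tmul, mulMap_tmul, map_mul, AlgHom.commutes, hb]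
    show (b ⊗ₜ[k] (1 : W k k' A)) * (1 ⊗ₜ w) = b ⊗ₜ w
    rw [Algebra.TensorProduct.tmul_mul_tmul, mul_one, one_mul]
  | add z w hz hw => rw [map_add, map_add, hz, hw]

/-- The unit of an étale algebra is an isomorphism. -/
theorem unitMap_bijective (A : Type u) [CommRing A] [Algebra k A] [Algebra.FormallyUnramified k A] :
    Function.Bijective (unitMap k k' A) := by
  have hs : Function.Surjective (unitMap k k' A) :=
    unitMap_surjective k k' A fun p => ⟨⊥, Subsingleton.elim _ _⟩
  let Wn := W k k' (k' ⊗[k] A)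
  let T := k' ⊗[k] Wn
  let g : A →ₐ[k] T := ((univ k k' (k' ⊗[k] A)).restrictScalars k).comp Algebra.TensorProduct.includeRight
  let j₁ : T →ₐ[k] k' ⊗[k] T := Algebra.TensorProduct.map (AlgHom.id k k') Algebra.TensorProduct.includeRight
  let j₂ : T →ₐ[k] k' ⊗[k] T := Algebra.TensorProduct.includeRight
  have hj : j₁.comp g = j₂.comp g := by
    refine eq_of_mulMap_eq k k' T _ _ fun a => ?_
    show mulMap k k' T (j₁ (g a)) = mulMap k k' T (j₂ (g a))
    generalize g a = z
    induction z using TensorProduct.induction_on with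
    | zero => simp
    | tmul b w =>
      show mulMap k k' T (b ⊗ₜ (1 ⊗ₜ w)) = mulMap k k' T (1 ⊗ₜ (b ⊗ₜ w))
      rw [mulMap_tmul, mulMap_tmul, map_one, one_mul]
      show (b ⊗ₜ[k] (1 : Wn)) * (1 ⊗ₜ w) = b ⊗ₜ w
      rw [Algebra.TensorProduct.tmul_mul_tmul, mul_one, one_mul]
    | add z w hz hw => simp only [map_add, hz, hw]
  obtain ⟨l, hl⟩ : ∃ l : k' →ₗ[k] k, l 1 = 1 := by
    obtain ⟨l, hl⟩ := (Algebra.linearMap k k').exists_leftInverse_of_injective
      (LinearMap.ker_eq_bot.2 (algebraMap k k').injective)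
    exact ⟨l, by simpa using LinearMap.congr_fun hl 1⟩
  have hdesc : ∀ z : T, j₁ z = j₂ z → ∃ w : Wn, (1 : k') ⊗ₜ w = z := by
    intro z hz
    let L : k' ⊗[k] T →ₗ[k] T := (TensorProduct.lid k T).toLinearMap ∘ₗ LinearMap.rTensor T l
    refine ⟨TensorProduct.lid k Wn (LinearMap.rTensor Wn l z), ?_⟩
    have h1 : L (j₂ z) = z := by
      show TensorProduct.lid k T (LinearMap.rTensor T l (1 ⊗ₜ z)) = z
      rw [LinearMap.rTensor_tmul, hl, TensorProduct.lid_tmul, one_smul]
    have h2 : ∀ z, L (j₁ z) = 1 ⊗ₜ TensorProduct.lid k Wn (LinearMap.rTensor Wn l z) := fun z => by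
      induction z using TensorProduct.induction_on with
      | zero => simp
      | tmul b w =>
        show TensorProduct.lid k T (LinearMap.rTensor T l (b ⊗ₜ (1 ⊗ₜ w))) = _
        rw [LinearMap.rTensor_tmul, TensorProduct.lid_tmul, LinearMap.rTensor_tmul,
          TensorProduct.lid_tmul, TensorProduct.tmul_smul]
      | add z w hz hw => simp only [map_add, hz, hw, TensorProduct.tmul_add]
    rw [← h2, hz, h1]
  choose c hc using fun a => hdesc (g a) (AlgHom.congr_fun hj a)
  have hinj : Function.Injective fun w : Wn => (1 : k') ⊗ₜ[k] w :=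
    Algebra.TensorProduct.includeRight_injective (algebraMap k k').injective
  let ψ : A →ₐ[k] Wn :=
    { toFun := c
      map_one' := hinj (show (1 : k') ⊗ₜ[k] c 1 = (1 : k') ⊗ₜ[k] (1 : Wn) by rw [hc, map_one]; rfl)
      map_mul' := fun x y => hinj (show (1 : k') ⊗ₜ[k] c (x * y) = (1 : k') ⊗ₜ[k] (c x * c y) by
        rw [hc, map_mul, ← hc x, ← hc y, Algebra.TensorProduct.tmul_mul_tmul, one_mul])
      map_zero' := hinj (show (1 : k') ⊗ₜ[k] c 0 = (1 : k') ⊗ₜ[k] (0 : Wn) by
        rw [hc, map_zero, TensorProduct.tmul_zero])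
      map_add' := fun x y => hinj (show (1 : k') ⊗ₜ[k] c (x + y) = (1 : k') ⊗ₜ[k] (c x + c y) by
        rw [hc, map_add, ← hc x, ← hc y, TensorProduct.tmul_add])
      commutes' := fun r => hinj (show (1 : k') ⊗ₜ[k] c (algebraMap k A r) =
          (1 : k') ⊗ₜ[k] algebraMap k Wn r by
        rw [hc, AlgHom.commutes]
        exact (Algebra.TensorProduct.algebraMap_apply r).trans
          (Algebra.TensorProduct.tmul_one_eq_one_tmul r)) }
  have hψ : ψ.comp (unitMap k k' A) = AlgHom.id k Wn := by
    refine hom_ext ?_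
    rw [Algebra.TensorProduct.map_id_comp, AlgHom.comp_assoc]
    show (Algebra.TensorProduct.map (AlgHom.id k' k') ψ).comp
      ((Algebra.TensorProduct.map (AlgHom.id k' k') (toHom _)).comp (univ k k' (k' ⊗[k] A))) = _
    rw [map_toHom_univ, AlgHom.comp_id, Algebra.TensorProduct.map_id, AlgHom.id_comp]
    refine Algebra.TensorProduct.ext (AlgHom.ext fun b => ?_) (AlgHom.ext fun a => ?_)
    · show b ⊗ₜ ψ 1 = univ k k' (k' ⊗[k] A) (b ⊗ₜ 1)
      rw [map_one]
      exact ((univ k k' (k' ⊗[k] A)).commutes b).symm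
    · exact hc a
  exact ⟨Function.LeftInverse.injective fun w => AlgHom.congr_fun hψ w, hs⟩

end Field

end Groth.L13.WeilRes
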