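import Groth.Agent.L13.WeilRes.Scheme
import Groth.Agent.L13.WeilRes.Insep
import Mathlib.AlgebraicGeometry.Morphisms.Smooth
import Mathlib.AlgebraicGeometry.Morphisms.Etale
import Mathlib.AlgebraicGeometry.Morphisms.FlatDescent
import Mathlib.AlgebraicGeometry.Morphisms.ClosedImmersion
import Mathlib.AlgebraicGeometry.Morphisms.Finite
import Mathlib.RingTheory.Etale.Field

/-!
Properties of Weil restrictions of affine schemes.
-/

universe u

open CategoryTheory AlgebraicGeometry Limits TensorProduct

namespace Groth.L13.WeilRes

theorem algebra_smooth {B : Type u} [CommRing B] {A : Type u} [CommRing A] [Algebra B A]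
    {X : Over (Spec (CommRingCat.of B))} (a : X ≅ specOver B A) [Smooth X.hom] : Algebra.Smooth B A := by
  have h : Smooth (Spec.map (CommRingCat.ofHom (algebraMap B A))) := by
    have := Over.w a.inv
    rw [← show a.inv.left ≫ X.hom = Spec.map (CommRingCat.ofHom (algebraMap B A)) from this]
    infer_instance
  exact RingHom.smooth_algebraMap.1 (HasRingHomProperty.Spec_iff.1 h)

theorem algebra_etale {B : Type u} [CommRing B] {A : Type u} [CommRing A] [Algebra B A]
    {X : Over (Spec (CommRingCat.of B))} (a : X ≅ specOver B A) [Etale X.hom] : Algebra.Etale B A := by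
  have h : Etale (Spec.map (CommRingCat.ofHom (algebraMap B A))) := by
    rw [← show a.inv.left ≫ X.hom = Spec.map (CommRingCat.ofHom (algebraMap B A)) from Over.w a.inv]
    infer_instance
  exact RingHom.etale_algebraMap.1 (HasRingHomProperty.Spec_iff.1 h)

theorem comap_surjective {B : Type u} [CommRing B] {A : Type u} [CommRing A] [Algebra B A]
    {X : Over (Spec (CommRingCat.of B))} (a : X ≅ specOver B A) [Surjective X.hom] :
    Function.Surjective (PrimeSpectrum.comap (algebraMap B A)) := by
  have h : Surjective (Spec.map (CommRingCat.ofHom (algebraMap B A))) := by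
    rw [← show a.inv.left ≫ X.hom = Spec.map (CommRingCat.ofHom (algebraMap B A)) from Over.w a.inv]
    infer_instance
  exact h.surj

variable (B B' : Type u) [CommRing B] [CommRing B'] [Algebra B B'] [IsNoetherianRing B]
  [Module.Finite B B'] [Module.Projective B B'] (A : Type u) [CommRing A] [Algebra B' A]

theorem smooth_surjective_counit [Algebra.Smooth B' A]
    (hA : ∀ (K : Type u) [Field K] [IsAlgClosed K] [Algebra B' K], Nontrivial A → Nonempty (A →ₐ[B'] K)) :
    Smooth (specHom (univ B B' A)).left ∧ Surjective (specHom (univ B B' A)).left := by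
  haveI : IsNoetherianRing B' := Algebra.FiniteType.isNoetherianRing B B'
  haveI : IsNoetherianRing A := Algebra.FiniteType.isNoetherianRing B' A
  haveI := finiteType B B' A
  refine ⟨?_, ⟨univ_comap_surjective B B' A hA⟩⟩
  refine HasRingHomProperty.Spec_iff.2 ?_
  show (univ B B' A).toRingHom.Smooth
  letI := (univ B B' A).toRingHom.toAlgebra
  haveI : IsScalarTower B' A (B' ⊗[B] W B B' A) :=
    IsScalarTower.of_algebraMap_eq fun b => ((univ B B' A).commutes b).symm
  haveI : Algebra.FiniteType A (B' ⊗[B] W B B' A) := Algebra.FiniteType.of_restrictScalars_finiteType B' A _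
  exact ⟨univ_formallySmooth B B' A, Algebra.FinitePresentation.of_finiteType.1 inferInstance⟩

omit [IsNoetherianRing B] in
theorem hA_field {k' : Type u} [Field k'] (A : Type u) [CommRing A] [Algebra k' A]
    [Algebra.FiniteType k' A] (K : Type u) [Field K] [IsAlgClosed K] [Algebra k' K] (hA : Nontrivial A) :
    Nonempty (A →ₐ[k'] K) := by
  refine exists_algHom_isAlgClosed k' A (fun p => ?_) K
  obtain ⟨q⟩ : Nonempty (PrimeSpectrum A) := inferInstance
  exact ⟨q, Subsingleton.elim _ _⟩

variable (A' : Type u) [CommRing A'] [Algebra B' A'] [Algebra A A'] [IsScalarTower B' A A']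

theorem smooth_surjective_map [Algebra.FiniteType B' A] [Algebra.Smooth A A']
    (hS : Function.Surjective (PrimeSpectrum.comap (algebraMap A A'))) :
    Smooth (specHom (mapAlg B B' (A := A) A')).left ∧
      Surjective (specHom (mapAlg B B' (A := A) A')).left := by
  haveI := finiteType B B' A
  haveI : Algebra.FiniteType B' A' := Algebra.FiniteType.trans (R := B') (A := A') (S := A) inferInstance inferInstance
  haveI := finiteType B B' A'
  haveI : IsNoetherianRing (W B B' A) := Algebra.FiniteType.isNoetherianRing B _
  refine ⟨?_, ⟨mapAlg_comap_surjective B B' A' hS⟩⟩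
  refine HasRingHomProperty.Spec_iff.2 ?_
  show (mapAlg B B' (A := A) A').toRingHom.Smooth
  letI := (mapAlg B B' (A := A) A').toRingHom.toAlgebra
  haveI : IsScalarTower B (W B B' A) (W B B' A') :=
    IsScalarTower.of_algebraMap_eq fun b => ((mapAlg B B' (A := A) A').commutes b).symm
  haveI : Algebra.FiniteType (W B B' A) (W B B' A') := Algebra.FiniteType.of_restrictScalars_finiteType B _ _
  exact ⟨mapAlg_formallySmooth B B' A', Algebra.FinitePresentation.of_finiteType.1 inferInstance⟩

end Groth.L13.WeilRes
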