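import Groth.Agent.L13.WeilRes.Counit
import Mathlib.AlgebraicGeometry.Pullbacks
import Mathlib.AlgebraicGeometry.AffineScheme
import Mathlib.CategoryTheory.Comma.Over.Pullback

/-!
Schemes representing Weil restrictions of affine schemes are spectra of the Weil restriction
algebra.
-/

universe u

open CategoryTheory AlgebraicGeometry Limits TensorProduct

namespace Groth.L13.WeilRes

variable (B B' : Type u) [CommRing B] [CommRing B'] [Algebra B B']

/-- The spectrum of an algebra over the base. -/
noncomputable abbrev specOver (C : Type u) [CommRing C] [Algebra B C] : Over (Spec (CommRingCat.of B)) :=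
  Over.mk (Spec.map (CommRingCat.ofHom (algebraMap B C)))

variable {B} in
/-- The morphism of spectra of an algebra map. -/
noncomputable def specHom {C D : Type u} [CommRing C] [Algebra B C] [CommRing D] [Algebra B D]
    (f : D →ₐ[B] C) : specOver B C ⟶ specOver B D :=
  Over.homMk (Spec.map (CommRingCat.ofHom f.toRingHom)) (by
    show Spec.map _ ≫ Spec.map _ = Spec.map _
    rw [← Spec.map_comp]
    congr 1
    ext b
    exact f.commutes b)

variable {B} in
theorem specHom_comp {C D E : Type u} [CommRing C] [Algebra B C] [CommRing D] [Algebra B D] [CommRing E]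
    [Algebra B E] (f : D →ₐ[B] C) (g : E →ₐ[B] D) : specHom f ≫ specHom g = specHom (f.comp g) := by
  ext1
  exact (Spec.map_comp _ _).symm

variable {B} in
theorem specHom_id {C : Type u} [CommRing C] [Algebra B C] : specHom (AlgHom.id B C) = 𝟙 (specOver B C) := by
  ext1
  exact Spec.map_id _

theorem specHom_bijective (C D : Type u) [CommRing C] [Algebra B C] [CommRing D] [Algebra B D] :
    Function.Bijective (fun f : D →ₐ[B] C => specHom f) := by
  constructor
  · intro f g h
    exact AlgHom.ext fun d => congrArg (fun q : CommRingCat.of D ⟶ CommRingCat.of C => q.hom d)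
      (Spec.map_injective (congrArg CommaMorphism.left h))
  · intro h
    obtain ⟨φ, hφ⟩ := Spec.map_surjective h.left
    have hw : CommRingCat.ofHom (algebraMap B D) ≫ φ = CommRingCat.ofHom (algebraMap B C) := by
      apply Spec.map_injective
      rw [Spec.map_comp, hφ]
      exact Over.w h
    refine ⟨{ φ.hom with commutes' := fun b => congrArg (fun q => q.hom b) hw }, ?_⟩
    ext1
    exact hφ

/-- Morphisms of spectra as algebra maps. -/
noncomputable def specEquiv (C D : Type u) [CommRing C] [Algebra B C] [CommRing D] [Algebra B D] :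
    (D →ₐ[B] C) ≃ (specOver B C ⟶ specOver B D) :=
  Equiv.ofBijective _ (specHom_bijective B C D)

/-- Affine schemes over the base are spectra of algebras. -/
theorem exists_iso_specOver (U : Over (Spec (CommRingCat.of B))) [IsAffine U.left] :
    ∃ (C : Type u) (_ : CommRing C) (_ : Algebra B C), Nonempty (U ≅ specOver B C) := by
  obtain ⟨φ, hφ⟩ := Spec.map_surjective (U.left.isoSpec.inv ≫ U.hom)
  refine ⟨Γ(U.left, ⊤), inferInstance, φ.hom.toAlgebra, ⟨Over.isoMk U.left.isoSpec ?_⟩⟩
  show _ ≫ Spec.map φ = _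
  rw [hφ, Iso.hom_inv_id_assoc]

/-- The base change of a spectrum. -/
noncomputable def bcIso (C : Type u) [CommRing C] [Algebra B C] :
    (Over.pullback (Spec.map (CommRingCat.ofHom (algebraMap B B')))).obj (specOver B C) ≅
      specOver B' (B' ⊗[B] C) :=
  Over.isoMk (pullbackSymmetry _ _ ≪≫ pullbackSpecIso B B' C) (by
    show ((pullbackSymmetry _ _).hom ≫ (pullbackSpecIso B B' C).hom) ≫ Spec.map _ = pullback.snd _ _
    rw [Category.assoc, ← pullbackSymmetry_hom_comp_fst]
    congr 1
    exact pullbackSpecIso_hom_fst B B' C)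

theorem bcIso_inv_fst (C : Type u) [CommRing C] [Algebra B C] :
    (bcIso B B' C).inv.left ≫ pullback.fst _ _ =
      Spec.map (CommRingCat.ofHom (Algebra.TensorProduct.includeRight : C →ₐ[B] B' ⊗[B] C).toRingHom) := by
  show ((pullbackSpecIso B B' C).inv ≫ (pullbackSymmetry _ _).inv) ≫ pullback.fst _ _ = _
  rw [Category.assoc, pullbackSymmetry_inv_comp_fst]
  exact pullbackSpecIso_inv_snd B B' C

theorem bcIso_inv_snd (C : Type u) [CommRing C] [Algebra B C] :
    (bcIso B B' C).inv.left ≫ pullback.snd _ _ =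
      Spec.map (CommRingCat.ofHom (algebraMap B' (B' ⊗[B] C))) :=
  Over.w (bcIso B B' C).inv

theorem map_bcIso {C D : Type u} [CommRing C] [Algebra B C] [CommRing D] [Algebra B D] (f : D →ₐ[B] C) :
    (Over.pullback (Spec.map (CommRingCat.ofHom (algebraMap B B')))).map (specHom f) ≫ (bcIso B B' D).hom =
      (bcIso B B' C).hom ≫ specHom (Algebra.TensorProduct.map (AlgHom.id B' B') f) := by
  rw [← Iso.inv_comp_eq, ← Category.assoc, ← Iso.eq_comp_inv]
  ext1
  apply pullback.hom_ext
  · show ((bcIso B B' C).inv.left ≫ pullback.lift _ _ _) ≫ pullback.fst _ _ =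
      (Spec.map _ ≫ (bcIso B B' D).inv.left) ≫ pullback.fst _ _
    rw [Category.assoc, pullback.lift_fst, ← Category.assoc]
    refine (congrArg (fun t => t ≫ (specHom f).left) (bcIso_inv_fst B B' C)).trans ?_
    rw [Category.assoc]
    refine ((Spec.map_comp _ _).symm.trans ?_).trans
      (congrArg (fun t => Spec.map _ ≫ t) (bcIso_inv_fst B B' D)).symm
    refine Eq.trans ?_ (Spec.map_comp _ _)
    congr 1
  · show ((bcIso B B' C).inv.left ≫ pullback.lift _ _ _) ≫ pullback.snd _ _ =
      (Spec.map _ ≫ (bcIso B B' D).inv.left) ≫ pullback.snd _ _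
    rw [Category.assoc, pullback.lift_snd, Category.assoc]
    refine (bcIso_inv_snd B B' C).trans ((congrArg (fun t => Spec.map _ ≫ t) (bcIso_inv_snd B B' D)).trans ?_).symm
    rw [← Spec.map_comp]
    congr 1
    ext b
    exact (Algebra.TensorProduct.map (AlgHom.id B' B') f).commutes b

variable {B} in
/-- A morphism from an affine scheme which is bijective on affine points is an isomorphism. -/
theorem isIso_of_bijective {X R : Over (Spec (CommRingCat.of B))} [IsAffine X.left] (φ : X ⟶ R)
    (h : ∀ (C : Type u) [CommRing C] [Algebra B C], Function.Bijective fun t : specOver B C ⟶ X => t ≫ φ) :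
    IsIso φ := by
  have hU : ∀ (U : Over (Spec (CommRingCat.of B))) [IsAffine U.left],
      Function.Bijective fun t : U ⟶ X => t ≫ φ := by
    intro U _
    obtain ⟨C, _, _, ⟨i⟩⟩ := exists_iso_specOver B U
    constructor
    · intro a b hab
      have : (i.inv ≫ a) ≫ φ = (i.inv ≫ b) ≫ φ := by
        rw [Category.assoc, Category.assoc]
        exact congrArg (i.inv ≫ ·) hab
      exact (cancel_epi i.inv).1 ((h C).1 this)
    · intro t
      obtain ⟨a, ha⟩ := (h C).2 (i.inv ≫ t)
      exact ⟨i.hom ≫ a, (Category.assoc _ _ _).trans ((congrArg (i.hom ≫ ·) ha).trans (i.hom_inv_id_assoc t))⟩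
  have hinj : ∀ (U : Over (Spec (CommRingCat.of B))) (a b : U ⟶ X), a ≫ φ = b ≫ φ → a = b := by
    intro U a b hab
    ext1
    refine U.left.affineCover.hom_ext _ _ fun j => ?_
    let V := Over.mk (U.left.affineCover.f j ≫ U.hom)
    let ι : V ⟶ U := Over.homMk (U.left.affineCover.f j)
    haveI : IsAffine V.left := inferInstanceAs (IsAffine (U.left.affineCover.X j))
    have : ι ≫ a = ι ≫ b := (hU V).1 (show (ι ≫ a) ≫ φ = (ι ≫ b) ≫ φ by
      rw [Category.assoc, Category.assoc, hab])
    exact congrArg CommaMorphism.left this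
  let 𝒰 := R.left.affineCover
  let V : 𝒰.I₀ → Over (Spec (CommRingCat.of B)) := fun j => Over.mk (𝒰.f j ≫ R.hom)
  let ι : ∀ j, V j ⟶ R := fun j => Over.homMk (𝒰.f j)
  haveI : ∀ j, IsAffine (V j).left := fun j => inferInstanceAs (IsAffine (R.left.affineCover.X j))
  choose s hs using fun j => (hU (V j)).2 (ι j)
  have hglue : ∀ i j, pullback.fst (𝒰.f i) (𝒰.f j) ≫ (s i).left = pullback.snd _ _ ≫ (s j).left := by
    intro i j
    let P := Over.mk (pullback.fst (𝒰.f i) (𝒰.f j) ≫ 𝒰.f i ≫ R.hom)
    let p : P ⟶ V i := Over.homMk (pullback.fst _ _)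
    let q : P ⟶ V j := Over.homMk (pullback.snd _ _) (by
      show pullback.snd _ _ ≫ 𝒰.f j ≫ R.hom = pullback.fst _ _ ≫ 𝒰.f i ≫ R.hom
      rw [← pullback.condition_assoc])
    have : p ≫ s i = q ≫ s j := hinj P _ _ (by
      refine (Category.assoc _ _ _).trans (Eq.trans ?_ (Category.assoc _ _ _).symm)
      refine (congrArg (p ≫ ·) (hs i)).trans (Eq.trans ?_ (congrArg (q ≫ ·) (hs j)).symm)
      ext1
      exact pullback.condition)
    exact congrArg CommaMorphism.left this
  let σ : R ⟶ X := Over.homMk (𝒰.glueMorphisms (fun j => (s j).left) hglue)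
    (𝒰.hom_ext _ _ fun j => by
      rw [← Category.assoc, 𝒰.ι_glueMorphisms]
      exact Over.w (s j))
  have h1 : σ ≫ φ = 𝟙 R := by
    ext1
    refine 𝒰.hom_ext _ _ fun j => ?_
    show 𝒰.f j ≫ 𝒰.glueMorphisms _ _ ≫ φ.left = 𝒰.f j ≫ 𝟙 _
    rw [← Category.assoc, 𝒰.ι_glueMorphisms, Category.comp_id]
    exact congrArg CommaMorphism.left (hs j)
  exact ⟨σ, hinj X _ _ (by rw [Category.assoc, h1, Category.comp_id, Category.id_comp]), h1⟩

variable {B B'} [Module.Finite B B'] [Module.Projective B B']

/-- A scheme representing the Weil restriction of an affine scheme is the spectrum of the Weil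
restriction algebra, compatibly with the universal points. -/
theorem exists_repr (A : Type u) [CommRing A] [Algebra B' A] {X' : Over (Spec (CommRingCat.of B'))}
    (a : X' ≅ specOver B' A) (R : Over (Spec (CommRingCat.of B)))
    (e : ∀ Y : Over (Spec (CommRingCat.of B)), (Y ⟶ R) ≃
      ((Over.pullback (Spec.map (CommRingCat.ofHom (algebraMap B B')))).obj Y ⟶ X'))
    (he : ∀ (Y Z : Over (Spec (CommRingCat.of B))) (h : Y ⟶ Z) (g : Z ⟶ R),
      e Y (h ≫ g) = (Over.pullback (Spec.map (CommRingCat.ofHom (algebraMap B B')))).map h ≫ e Z g) :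
    ∃ ψ : specOver B (W B B' A) ≅ R,
      e _ ψ.hom = (bcIso B B' (W B B' A)).hom ≫ specHom (univ B B' A) ≫ a.inv ∧
      e R (𝟙 R) = ((Over.pullback (Spec.map (CommRingCat.ofHom (algebraMap B B')))).map ψ.inv ≫
        (bcIso B B' (W B B' A)).hom) ≫ specHom (univ B B' A) ≫ a.inv := by
  let φ : specOver B (W B B' A) ⟶ R :=
    (e _).symm ((bcIso B B' (W B B' A)).hom ≫ specHom (univ B B' A) ≫ a.inv)
  have hφ : e _ φ = (bcIso B B' (W B B' A)).hom ≫ specHom (univ B B' A) ≫ a.inv := Equiv.apply_symm_apply _ _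
  have key : ∀ (C : Type u) [CommRing C] [Algebra B C] (f : W B B' A →ₐ[B] C),
      e _ (specHom f ≫ φ) = (bcIso B B' C).hom ≫
        specHom ((Algebra.TensorProduct.map (AlgHom.id B' B') f).comp (univ B B' A)) ≫ a.inv := by
    intro C _ _ f
    rw [he, hφ, ← Category.assoc, map_bcIso, ← specHom_comp, Category.assoc, Category.assoc]
  haveI : IsAffine (specOver B (W B B' A)).left :=
    inferInstanceAs (IsAffine (Spec (CommRingCat.of (W B B' A))))
  have hiso : IsIso φ := by
    refine isIso_of_bijective φ fun C _ _ => ⟨fun x y hxy => ?_, fun t => ?_⟩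
    · obtain ⟨f, rfl⟩ := (specHom_bijective B C _).2 x
      obtain ⟨g, rfl⟩ := (specHom_bijective B C _).2 y
      have := (key C f).symm.trans ((congrArg (e _) hxy).trans (key C g))
      rw [cancel_epi, cancel_mono] at this
      exact congrArg specHom (hom_ext ((specHom_bijective B' _ _).1 this))
    · obtain ⟨F, hF⟩ := (specHom_bijective B' (B' ⊗[B] C) A).2 ((bcIso B B' C).inv ≫ e _ t ≫ a.hom)
      refine ⟨specHom (toHom F), (e _).injective ((key C (toHom F)).trans ?_)⟩
      rw [map_toHom_univ, show specHom F = _ from hF]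
      simp
  refine ⟨asIso φ, hφ, ?_⟩
  rw [← IsIso.inv_hom_id φ, he, hφ, ← Category.assoc]
  rfl

end Groth.L13.WeilRes
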