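import Groth.Agent.L13.WeilRes.Alg
import Mathlib.RingTheory.Artinian.Ring
import Mathlib.RingTheory.Nullstellensatz
import Mathlib.FieldTheory.IsAlgClosed.AlgebraicClosure
import Mathlib.RingTheory.Spectrum.Prime.TensorProduct
import Mathlib.RingTheory.LocalRing.ResidueField.Fiber
import Mathlib.RingTheory.Jacobson.Ring
import Mathlib.RingTheory.TensorProduct.Finite

/-!
The counit and functoriality of the Weil restriction: formal smoothness and surjectivity.
-/

universe u

open TensorProduct

namespace Groth.L13.WeilRes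

variable (B B' : Type u) [CommRing B] [CommRing B'] [Algebra B B']

/-- Multiplication of a base change onto an algebra over the larger ring. -/
noncomputable def mulMap (C : Type u) [CommRing C] [Algebra B C] [Algebra B' C] [IsScalarTower B B' C] :
    B' ⊗[B] C →ₐ[B'] C :=
  Algebra.TensorProduct.lift (Algebra.ofId B' C) (AlgHom.id B C) fun _ _ => Commute.all _ _

theorem mulMap_tmul {C : Type u} [CommRing C] [Algebra B C] [Algebra B' C] [IsScalarTower B B' C]
    (b : B') (c : C) : mulMap B B' C (b ⊗ₜ c) = algebraMap B' C b * c := by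
  simp [mulMap, Algebra.ofId_apply]

theorem mulMap_map {C D : Type u} [CommRing C] [Algebra B C] [Algebra B' C] [IsScalarTower B B' C]
    [CommRing D] [Algebra B D] [Algebra B' D] [IsScalarTower B B' D] (f : C →ₐ[B'] D) (z : B' ⊗[B] C) :
    f (mulMap B B' C z) =
      mulMap B B' D (Algebra.TensorProduct.map (AlgHom.id B' B') (f.restrictScalars B) z) := by
  induction z using TensorProduct.induction_on with
  | zero => simp
  | tmul b c =>
    rw [Algebra.TensorProduct.map_tmul, mulMap_tmul, mulMap_tmul, map_mul, AlgHom.commutes]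
    rfl
  | add z w hz hw => simp only [map_add, hz, hw]

variable [Module.Finite B B'] [Module.Projective B B'] (A : Type u) [CommRing A] [Algebra B' A]

set_option synthInstance.maxHeartbeats 400000 in
/-- The counit is formally smooth. -/
theorem univ_formallySmooth [Algebra.FormallySmooth B' A] :
    letI := (univ B B' A).toRingHom.toAlgebra
    Algebra.FormallySmooth A (B' ⊗[B] W B B' A) := by
  letI := (univ B B' A).toRingHom.toAlgebra
  refine .of_comp_surjective fun C _ _ I hI f => ?_
  letI algB'C : Algebra B' C := ((algebraMap A C).comp (algebraMap B' A)).toAlgebra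
  letI algBC : Algebra B C := ((algebraMap B' C).comp (algebraMap B B')).toAlgebra
  haveI : IsScalarTower B B' C := IsScalarTower.of_algebraMap_eq fun _ => rfl
  haveI : IsScalarTower B' A C := IsScalarTower.of_algebraMap_eq fun _ => rfl
  have hfu : ∀ a, f (univ B B' A a) = Ideal.Quotient.mk I (algebraMap A C a) := fun a => f.commutes a
  have hfb : ∀ b : B', f (b ⊗ₜ 1) = algebraMap B' (C ⧸ I) b := fun b => by
    have := hfu (algebraMap B' A b)
    rwa [AlgHom.commutes] at this
  let fB : B' ⊗[B] W B B' A →ₐ[B'] C ⧸ I := { f.toRingHom with commutes' := hfb }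
  let g₀ : W B B' A →ₐ[B] C ⧸ I :=
    (fB.restrictScalars B).comp Algebra.TensorProduct.includeRight
  have hf0 : ∀ z, f z = mulMap B B' (C ⧸ I) (Algebra.TensorProduct.map (AlgHom.id B' B') g₀ z) := by
    intro z
    induction z using TensorProduct.induction_on with
    | zero => simp
    | tmul b w =>
      rw [Algebra.TensorProduct.map_tmul, mulMap_tmul, AlgHom.coe_id, id_eq, ← hfb b]
      show f (b ⊗ₜ w) = f (b ⊗ₜ 1) * f ((1 : B') ⊗ₜ w)
      rw [← map_mul, Algebra.TensorProduct.tmul_mul_tmul, mul_one, one_mul]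
    | add z w hz hw => simp only [map_add, hz, hw]
  let F₀ : A →ₐ[B'] B' ⊗[B] (C ⧸ I) := (Algebra.TensorProduct.map (AlgHom.id B' B') g₀).comp (univ B B' A)
  let π : B' ⊗[B] C →ₐ[B'] B' ⊗[B] (C ⧸ I) :=
    Algebra.TensorProduct.map (AlgHom.id B' B') (Ideal.Quotient.mkₐ B I)
  obtain ⟨hπs, hπn⟩ := exists_baseChange_quotient B B' I ⟨2, hI⟩
  let P : B' ⊗[B] C →ₐ[B'] (B' ⊗[B] (C ⧸ I)) × C := AlgHom.prod π (mulMap B B' C)
  have hmem : ∀ a, ((F₀ a, algebraMap A C a) : (B' ⊗[B] (C ⧸ I)) × C) ∈ P.range := by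
    intro a
    obtain ⟨z, hz⟩ := hπs (F₀ a)
    have hI' : algebraMap A C a - mulMap B B' C z ∈ I := by
      rw [← Ideal.Quotient.eq_zero_iff_mem, map_sub, sub_eq_zero, ← hfu, hf0]
      refine (congrArg (mulMap B B' (C ⧸ I)) ?_).trans
        (mulMap_map B B' ((Ideal.Quotient.mkₐ B' I)) z).symm
      exact hz.symm
    refine ⟨z + 1 ⊗ₜ (algebraMap A C a - mulMap B B' C z), Prod.ext ?_ ?_⟩
    · show π (z + 1 ⊗ₜ (algebraMap A C a - mulMap B B' C z)) = F₀ a
      rw [map_add]
      simp only [π, Algebra.TensorProduct.map_tmul, Ideal.Quotient.mkₐ_eq_mk,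
        Ideal.Quotient.eq_zero_iff_mem.2 hI', TensorProduct.tmul_zero, add_zero]
      exact hz
    · show mulMap B B' C (z + 1 ⊗ₜ (algebraMap A C a - mulMap B B' C z)) = algebraMap A C a
      rw [map_add, mulMap_tmul, map_one, one_mul, add_sub_cancel]
  let T : A →ₐ[B'] P.range :=
    (AlgHom.prod F₀ (IsScalarTower.toAlgHom B' A C)).codRestrict P.range hmem
  have hker : IsNilpotent (RingHom.ker (P.rangeRestrict : B' ⊗[B] C →+* P.range)) := by
    obtain ⟨m, hm⟩ := hπn
    refine ⟨m, le_bot_iff.1 (le_trans (Ideal.pow_right_mono ?_ m) hm.le)⟩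
    intro z hz
    exact congrArg Prod.fst (congrArg Subtype.val (RingHom.mem_ker.1 hz))
  let G := Algebra.FormallySmooth.liftOfSurjective (C := P.range) T P.rangeRestrict P.rangeRestrict_surjective hker
  have hG : ∀ a, π (G a) = F₀ a ∧ mulMap B B' C (G a) = algebraMap A C a := fun a =>
    Prod.ext_iff.1 (congrArg Subtype.val
      (Algebra.FormallySmooth.liftOfSurjective_apply (C := P.range) T P.rangeRestrict P.rangeRestrict_surjective hker a))
  let g₁ : W B B' A →ₐ[B] C := toHom G
  have hg₁ : (Ideal.Quotient.mkₐ B I).comp g₁ = g₀ := by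
    refine hom_ext ?_
    rw [Algebra.TensorProduct.map_id_comp, AlgHom.comp_assoc, map_toHom_univ]
    exact AlgHom.ext fun a => (hG a).1
  let f₁ : B' ⊗[B] W B B' A →ₐ[B'] C :=
    (mulMap B B' C).comp (Algebra.TensorProduct.map (AlgHom.id B' B') g₁)
  refine ⟨{ f₁.toRingHom with commutes' := fun a => ?_ }, ?_⟩
  · show f₁ (univ B B' A a) = algebraMap A C a
    rw [← (hG a).2]
    exact congrArg (mulMap B B' C) (AlgHom.congr_fun (map_toHom_univ G) a)
  · refine AlgHom.ext fun z => ?_
    show Ideal.Quotient.mkₐ B' I (f₁ z) = f z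
    rw [hf0, ← hg₁, Algebra.TensorProduct.map_id_comp]
    exact mulMap_map B B' (Ideal.Quotient.mkₐ B' I) _

omit [Module.Finite B B'] [Module.Projective B B'] in
/-- Lifting points through an artinian algebra. -/
theorem exists_algHom_artinian (R : Type u) [CommRing R] {S : Type u} [CommRing S] [Algebra R S]
    [Algebra.FormallySmooth R S] (D : Type u) [CommRing D] [Algebra R D] [IsArtinianRing D]
    (χ : ∀ M : MaximalSpectrum D, S →ₐ[R] D ⧸ M.asIdeal) :
    ∃ G : S →ₐ[R] D, ∀ M : MaximalSpectrum D, (Ideal.Quotient.mkₐ R M.asIdeal).comp G = χ M := by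
  let P : D →ₐ[R] ∀ M : MaximalSpectrum D, D ⧸ M.asIdeal :=
    AlgHom.pi fun M => Ideal.Quotient.mkₐ R M.asIdeal
  have hs : Function.Surjective P := fun x => by
    obtain ⟨r, hr⟩ := Ideal.pi_quotient_surjective (I := fun M : MaximalSpectrum D => M.asIdeal)
      (fun M N h => Ideal.isCoprime_iff_sup_eq.2
        (M.isMaximal.coprime_of_ne N.isMaximal fun h' => h (MaximalSpectrum.ext h'))) x
    exact ⟨r, funext hr⟩
  have hker : IsNilpotent (RingHom.ker (P : D →+* ∀ M : MaximalSpectrum D, D ⧸ M.asIdeal)) := by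
    obtain ⟨m, hm⟩ := IsArtinianRing.isNilpotent_jacobson_bot (R := D)
    refine ⟨m, le_bot_iff.1 (le_trans (Ideal.pow_right_mono ?_ m) hm.le)⟩
    intro z hz
    simp only [Ideal.jacobson, Submodule.mem_sInf]
    rintro M ⟨-, hM⟩
    exact Ideal.Quotient.eq_zero_iff_mem.1 (congrFun (RingHom.mem_ker.1 hz) ⟨M, hM⟩)
  refine ⟨Algebra.FormallySmooth.liftOfSurjective (AlgHom.pi χ) P hs hker, fun M => AlgHom.ext fun s => ?_⟩
  exact congrFun (Algebra.FormallySmooth.liftOfSurjective_apply (AlgHom.pi χ) P hs hker s) M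

omit [Module.Finite B B'] [Module.Projective B B'] in
/-- A nonempty fibre has points in every algebraically closed field. -/
theorem exists_algHom_isAlgClosed (R S : Type u) [CommRing R] [CommRing S] [Algebra R S]
    [Algebra.FiniteType R S] (hS : Function.Surjective (PrimeSpectrum.comap (algebraMap R S)))
    (K : Type u) [Field K] [IsAlgClosed K] [Algebra R K] : Nonempty (S →ₐ[R] K) := by
  let p : PrimeSpectrum R := ⟨RingHom.ker (algebraMap R K), RingHom.ker_isPrime _⟩
  haveI : p.asIdeal.IsPrime := p.2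
  have hne : Nontrivial (p.asIdeal.ResidueField ⊗[R] S) :=
    (PrimeSpectrum.nontrivial_iff_mem_rangeComap (S := S) p).2 (hS p)
  letI : Algebra p.asIdeal.ResidueField K :=
    (Ideal.ResidueField.lift p.asIdeal (algebraMap R K) le_rfl fun x hx => IsUnit.mk0 _ hx).toAlgebra
  haveI : IsScalarTower R p.asIdeal.ResidueField K :=
    IsScalarTower.of_algebraMap_eq fun x => (Ideal.ResidueField.lift_algebraMap _ _ _ _ x).symm
  obtain ⟨M, hM⟩ := Ideal.exists_maximal (p.asIdeal.ResidueField ⊗[R] S)
  haveI : Algebra.FiniteType p.asIdeal.ResidueField (p.asIdeal.ResidueField ⊗[R] S) := inferInstance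
  letI := Ideal.Quotient.field M
  haveI : Module.Finite p.asIdeal.ResidueField ((p.asIdeal.ResidueField ⊗[R] S) ⧸ M) :=
    finite_of_finite_type_of_isJacobsonRing _ _
  let ι : ((p.asIdeal.ResidueField ⊗[R] S) ⧸ M) →ₐ[p.asIdeal.ResidueField] K := IsAlgClosed.lift
  exact ⟨((ι.restrictScalars R).comp (Ideal.Quotient.mkₐ R M)).comp Algebra.TensorProduct.includeRight⟩

omit [Module.Finite B B'] [Module.Projective B B'] in
/-- Base changes of finite algebras to fields are artinian with residue fields finite over the field. -/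
theorem isArtinianRing_baseChange [Module.Finite B B'] (L : Type u) [Field L] [Algebra B L] :
    IsArtinianRing (B' ⊗[B] L) := by
  haveI : IsArtinianRing (L ⊗[B] B') := isArtinian_of_tower L inferInstance
  exact Function.Surjective.isArtinianRing (f := (Algebra.TensorProduct.comm B L B').toRingEquiv.toRingHom)
    (Algebra.TensorProduct.comm B L B').surjective

omit [Module.Finite B B'] [Module.Projective B B'] in
theorem isAlgClosed_quotient [Module.Finite B B'] (L : Type u) [Field L] [IsAlgClosed L] [Algebra B L]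
    (M : Ideal (B' ⊗[B] L)) [M.IsMaximal] :
    letI := Ideal.Quotient.field M
    IsAlgClosed (B' ⊗[B] L ⧸ M) := by
  letI := Ideal.Quotient.field M
  let φ : L →+* B' ⊗[B] L ⧸ M :=
    (Ideal.Quotient.mk M).comp (Algebra.TensorProduct.includeRight : L →ₐ[B] B' ⊗[B] L).toRingHom
  have hφi : φ.IsIntegral := by
    have h1 : (algebraMap L (L ⊗[B] B')).Finite := RingHom.finite_algebraMap.2 inferInstance
    have h2 : φ = ((Ideal.Quotient.mk M).comp (Algebra.TensorProduct.comm B L B').toRingEquiv.toRingHom).comp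
        (algebraMap L (L ⊗[B] B')) := RingHom.ext fun l => rfl
    rw [h2]
    refine ((RingHom.Finite.of_surjective _ fun z => ?_).comp h1).to_isIntegral
    obtain ⟨z, rfl⟩ := Ideal.Quotient.mk_surjective z
    obtain ⟨y, rfl⟩ := (Algebra.TensorProduct.comm B L B').surjective z
    exact ⟨y, rfl⟩
  have hb : Function.Bijective φ := by
    letI := φ.toAlgebra
    haveI : Algebra.IsIntegral L (B' ⊗[B] L ⧸ M) := ⟨hφi⟩
    exact IsAlgClosed.algebraMap_bijective_of_isIntegral
  exact IsAlgClosed.of_ringEquiv L _ (RingEquiv.ofBijective φ hb)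

/-- The counit is surjective on spectra. -/
theorem univ_comap_surjective [Algebra.Smooth B' A]
    (hA : ∀ (K : Type u) [Field K] [IsAlgClosed K] [Algebra B' K], Nontrivial A → Nonempty (A →ₐ[B'] K)) :
    Function.Surjective (PrimeSpectrum.comap (univ B B' A).toRingHom) := by
  intro p
  haveI : p.asIdeal.IsPrime := p.2
  obtain ⟨L, _, _, ι, -⟩ : ∃ (L : Type u) (_ : Field L) (_ : IsAlgClosed L)
      (_ : p.asIdeal.ResidueField →+* L), True :=
    ⟨AlgebraicClosure p.asIdeal.ResidueField, inferInstance, inferInstance, algebraMap _ _, trivial⟩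
  let a₀ : A →+* L := ι.comp (algebraMap A p.asIdeal.ResidueField)
  letI algB'L : Algebra B' L := (a₀.comp (algebraMap B' A)).toAlgebra
  letI algBL : Algebra B L := ((algebraMap B' L).comp (algebraMap B B')).toAlgebra
  haveI : IsScalarTower B B' L := IsScalarTower.of_algebraMap_eq fun _ => rfl
  let D := B' ⊗[B] L
  haveI : IsArtinianRing D := isArtinianRing_baseChange B B' L
  let μ := mulMap B B' L
  have hμs : Function.Surjective μ := fun l => ⟨1 ⊗ₜ l, by simp [μ, mulMap_tmul]⟩
  have hμm : (RingHom.ker μ.toRingHom).IsMaximal := RingHom.ker_isMaximal_of_surjective _ hμs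
  haveI : Nontrivial A := p.2.ne_top |> fun h => by
    by_contra hn
    rw [not_nontrivial_iff_subsingleton] at hn
    exact h (Subsingleton.elim _ _)
  have hex : ∀ M : MaximalSpectrum D, ∃ χ : A →ₐ[B'] D ⧸ M.asIdeal,
      ∀ hM : M.asIdeal = RingHom.ker μ.toRingHom, ∀ a,
        ∀ z, Ideal.Quotient.mk M.asIdeal z = χ a → μ z = a₀ a := by
    intro M
    haveI := M.isMaximal
    letI := Ideal.Quotient.field M.asIdeal
    haveI := isAlgClosed_quotient B B' L M.asIdeal
    by_cases hM : M.asIdeal = RingHom.ker μ.toRingHom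
    · let a₀' : A →ₐ[B'] L := { a₀ with commutes' := fun _ => rfl }
      let e : (D ⧸ M.asIdeal) →ₐ[B'] L := Ideal.Quotient.liftₐ M.asIdeal μ fun z hz => RingHom.mem_ker.1 (hM ▸ hz :)
      have heb : Function.Bijective e := by
        refine ⟨e.toRingHom.injective, fun l => ?_⟩
        obtain ⟨z, hz⟩ := hμs l
        exact ⟨Ideal.Quotient.mk _ z, hz⟩
      refine ⟨(AlgEquiv.ofBijective e heb).symm.toAlgHom.comp a₀', fun _ a z hz => ?_⟩
      have h1 : e (Ideal.Quotient.mk M.asIdeal z) = μ z := rfl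
      rw [← h1, hz]
      exact (AlgEquiv.ofBijective e heb).apply_symm_apply (a₀ a)
    · obtain ⟨χ⟩ := hA (D ⧸ M.asIdeal) inferInstance
      exact ⟨χ, fun h => absurd h hM⟩
  choose χ hχ using hex
  obtain ⟨G, hG⟩ := exists_algHom_artinian B' D χ
  let pt : B' ⊗[B] W B B' A →ₐ[B'] L := μ.comp (Algebra.TensorProduct.map (AlgHom.id B' B') (toHom G))
  refine ⟨⟨RingHom.ker pt.toRingHom, RingHom.ker_isPrime _⟩, PrimeSpectrum.ext ?_⟩
  show Ideal.comap (univ B B' A).toRingHom (RingHom.ker pt.toRingHom) = p.asIdeal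
  ext a
  rw [Ideal.mem_comap, RingHom.mem_ker]
  show μ (Algebra.TensorProduct.map (AlgHom.id B' B') (toHom G) (univ B B' A a)) = 0 ↔ _
  rw [show Algebra.TensorProduct.map (AlgHom.id B' B') (toHom G) (univ B B' A a) = G a from
    AlgHom.congr_fun (map_toHom_univ G) a,
    hχ ⟨_, hμm⟩ rfl a (G a) (AlgHom.congr_fun (hG ⟨_, hμm⟩) a)]
  show ι (algebraMap A p.asIdeal.ResidueField a) = 0 ↔ _
  rw [map_eq_zero, Ideal.algebraMap_residueField_eq_zero]

variable {A} (A' : Type u) [CommRing A'] [Algebra B' A'] [Algebra A A'] [IsScalarTower B' A A']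

/-- Functoriality of the Weil restriction algebra. -/
noncomputable def mapAlg : W B B' A →ₐ[B] W B B' A' :=
  toHom ((univ B B' A').comp (IsScalarTower.toAlgHom B' A A'))

theorem mapAlg_formallySmooth [Algebra.FormallySmooth A A'] :
    letI := (mapAlg B B' (A := A) A').toRingHom.toAlgebra
    Algebra.FormallySmooth (W B B' A) (W B B' A') := by
  letI := (mapAlg B B' (A := A) A').toRingHom.toAlgebra
  refine .of_comp_surjective fun C _ _ I hI g => ?_
  letI : Algebra B C := ((algebraMap (W B B' A) C).comp (algebraMap B (W B B' A))).toAlgebra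
  haveI : IsScalarTower B (W B B' A) C := IsScalarTower.of_algebraMap_eq fun _ => rfl
  have hgB : ∀ b : B, g (algebraMap B (W B B' A') b) = algebraMap B (C ⧸ I) b := fun b => by
    have := g.commutes (algebraMap B (W B B' A) b)
    rw [show algebraMap (W B B' A) (W B B' A') (algebraMap B (W B B' A) b) = algebraMap B (W B B' A') b from
      (mapAlg B B' (A := A) A').commutes b] at this
    exact this
  let gB : W B B' A' →ₐ[B] C ⧸ I := { g.toRingHom with commutes' := hgB }
  let G₀ : A →ₐ[B'] B' ⊗[B] C :=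
    (Algebra.TensorProduct.map (AlgHom.id B' B') (IsScalarTower.toAlgHom B (W B B' A) C)).comp (univ B B' A)
  let F : A' →ₐ[B'] B' ⊗[B] (C ⧸ I) :=
    (Algebra.TensorProduct.map (AlgHom.id B' B') gB).comp (univ B B' A')
  let π : B' ⊗[B] C →ₐ[B'] B' ⊗[B] (C ⧸ I) :=
    Algebra.TensorProduct.map (AlgHom.id B' B') (Ideal.Quotient.mkₐ B I)
  obtain ⟨hπs, hπn⟩ := exists_baseChange_quotient B B' I ⟨2, hI⟩
  have hcompat : F.comp (IsScalarTower.toAlgHom B' A A') = π.comp G₀ := by
    show ((Algebra.TensorProduct.map (AlgHom.id B' B') gB).comp (univ B B' A')).comp _ = _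
    rw [AlgHom.comp_assoc, ← map_toHom_univ ((univ B B' A').comp (IsScalarTower.toAlgHom B' A A')),
      ← AlgHom.comp_assoc, ← AlgHom.comp_assoc, ← Algebra.TensorProduct.map_id_comp,
      ← Algebra.TensorProduct.map_id_comp]
    congr 2
    exact AlgHom.ext fun w => g.commutes w
  letI : Algebra A (B' ⊗[B] C) := G₀.toRingHom.toAlgebra
  letI : Algebra A (B' ⊗[B] (C ⧸ I)) := (π.comp G₀).toRingHom.toAlgebra
  let FA : A' →ₐ[A] B' ⊗[B] (C ⧸ I) :=
    { F.toRingHom with commutes' := fun a => AlgHom.congr_fun hcompat a }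
  let πA : B' ⊗[B] C →ₐ[A] B' ⊗[B] (C ⧸ I) := { π.toRingHom with commutes' := fun _ => rfl }
  let GA : A' →ₐ[A] B' ⊗[B] C := Algebra.FormallySmooth.liftOfSurjective FA πA hπs hπn
  let G : A' →ₐ[B'] B' ⊗[B] C :=
    { GA.toRingHom with
      commutes' := fun b => by
        show GA (algebraMap B' A' b) = _
        rw [IsScalarTower.algebraMap_apply B' A A', AlgHom.commutes]
        exact G₀.commutes b }
  have h1 : (toHom G).comp (mapAlg B B' (A := A) A') = IsScalarTower.toAlgHom B (W B B' A) C := by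
    refine hom_ext ?_
    rw [Algebra.TensorProduct.map_id_comp, AlgHom.comp_assoc]
    show (Algebra.TensorProduct.map (AlgHom.id B' B') (toHom G)).comp
      ((Algebra.TensorProduct.map (AlgHom.id B' B') (toHom _)).comp (univ B B' A)) = G₀
    rw [map_toHom_univ, ← AlgHom.comp_assoc, map_toHom_univ]
    exact AlgHom.ext fun a => GA.commutes a
  refine ⟨{ (toHom G).toRingHom with commutes' := fun w => AlgHom.congr_fun h1 w }, ?_⟩
  have h2 : (Ideal.Quotient.mkₐ B I).comp (toHom G) = gB := by
    refine hom_ext ?_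
    rw [Algebra.TensorProduct.map_id_comp, AlgHom.comp_assoc, map_toHom_univ]
    exact AlgHom.ext fun a =>
      Algebra.FormallySmooth.liftOfSurjective_apply FA πA hπs hπn a
  exact AlgHom.ext fun w => AlgHom.congr_fun h2 w

theorem mapAlg_comap_surjective [Algebra.Smooth A A']
    (hS : Function.Surjective (PrimeSpectrum.comap (algebraMap A A'))) :
    Function.Surjective (PrimeSpectrum.comap (mapAlg B B' (A := A) A').toRingHom) := by
  intro p
  haveI : p.asIdeal.IsPrime := p.2
  obtain ⟨L, _, _, ι, -⟩ : ∃ (L : Type u) (_ : Field L) (_ : IsAlgClosed L)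
      (_ : p.asIdeal.ResidueField →+* L), True :=
    ⟨AlgebraicClosure p.asIdeal.ResidueField, inferInstance, inferInstance, algebraMap _ _, trivial⟩
  let w₀ : W B B' A →+* L := ι.comp (algebraMap (W B B' A) p.asIdeal.ResidueField)
  letI algBL : Algebra B L := (w₀.comp (algebraMap B (W B B' A))).toAlgebra
  let w₀' : W B B' A →ₐ[B] L := { w₀ with commutes' := fun _ => rfl }
  let G₀ : A →ₐ[B'] B' ⊗[B] L := (Algebra.TensorProduct.map (AlgHom.id B' B') w₀').comp (univ B B' A)
  letI : Algebra A (B' ⊗[B] L) := G₀.toRingHom.toAlgebra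
  haveI : IsArtinianRing (B' ⊗[B] L) := isArtinianRing_baseChange B B' L
  have hex : ∀ M : MaximalSpectrum (B' ⊗[B] L), Nonempty (A' →ₐ[A] (B' ⊗[B] L) ⧸ M.asIdeal) := by
    intro M
    haveI := M.isMaximal
    letI := Ideal.Quotient.field M.asIdeal
    haveI := isAlgClosed_quotient B B' L M.asIdeal
    exact exists_algHom_isAlgClosed A A' hS _
  obtain ⟨GA, -⟩ := exists_algHom_artinian A (B' ⊗[B] L) fun M => (hex M).some
  let G : A' →ₐ[B'] B' ⊗[B] L :=
    { GA.toRingHom with
      commutes' := fun b => by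
        show GA (algebraMap B' A' b) = _
        rw [IsScalarTower.algebraMap_apply B' A A', AlgHom.commutes]
        exact G₀.commutes b }
  have h1 : (toHom G).comp (mapAlg B B' (A := A) A') = w₀' := by
    refine hom_ext ?_
    rw [Algebra.TensorProduct.map_id_comp, AlgHom.comp_assoc]
    show (Algebra.TensorProduct.map (AlgHom.id B' B') (toHom G)).comp
      ((Algebra.TensorProduct.map (AlgHom.id B' B') (toHom _)).comp (univ B B' A)) = G₀
    rw [map_toHom_univ, ← AlgHom.comp_assoc, map_toHom_univ]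
    exact AlgHom.ext fun a => GA.commutes a
  refine ⟨⟨RingHom.ker (toHom G).toRingHom, RingHom.ker_isPrime _⟩, PrimeSpectrum.ext ?_⟩
  show Ideal.comap (mapAlg B B' (A := A) A').toRingHom (RingHom.ker (toHom G).toRingHom) = p.asIdeal
  ext w
  rw [Ideal.mem_comap, RingHom.mem_ker]
  show (toHom G).comp (mapAlg B B' (A := A) A') w = 0 ↔ _
  rw [h1]
  show ι (algebraMap (W B B' A) p.asIdeal.ResidueField w) = 0 ↔ _
  rw [map_eq_zero, Ideal.algebraMap_residueField_eq_zero]

end Groth.L13.WeilRes
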